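import Groth.Agent.FlatMono.Alg
import Groth.Agent.AlgSp.DescentRep
import Groth.Agent.AlgSp.PointsMor
import Groth.Agent.AlgSp.Space
import Groth.Agent.AlgSpB.Open
import Groth.Agent.AlgSpB.OpenGlue
import Groth.Agent.AlgSpB.Points
import Groth.Agent.AlgSpCov.Sheaf
import Groth.Agent.AlgSpCov.EtaleMono
import Mathlib.AlgebraicGeometry.Morphisms.Etale
import Mathlib.AlgebraicGeometry.Morphisms.Flat

/-!
# Flat monomorphisms to affine schemes are affine near their image
-/

universe u

open CategoryTheory CategoryTheory.Limits AlgebraicGeometry TensorProduct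

set_option autoImplicit false
set_option backward.isDefEq.respectTransparency false
set_option backward.isDefEq.respectTransparency.types false
set_option linter.style.haveILetI false

namespace Groth.Agent.FlatMono

open _root_.AlgSp

variable {A B : Type u} [CommRing A] [CommRing B] [Algebra A B]

/-- Localizing the data of `exists_etale_local`. -/
theorem exists_localized (p : Ideal A) [p.IsPrime] {C : Type u} [CommRing C] [Algebra A C] [Algebra.Etale A C]
    {β : B} (φ : C →ₐ[A] Localization.Away β) (t t' : A) (q : Ideal C) [hq : q.IsPrime]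
    (hqp : q.comap (algebraMap A C) = p) (ht' : t' ∉ p)
    (hm : ∀ (R : Type u) [CommRing R] (χ₁ χ₂ : Localization.Away β →+* R),
      IsUnit (χ₁ (algebraMap A _ t)) → χ₁.comp φ.toRingHom = χ₂.comp φ.toRingHom → χ₁ = χ₂) :
    ∃ (φ' : Localization.Away (algebraMap A C (t * t')) →ₐ[A]
        Localization.Away (algebraMap A (Localization.Away β) (t * t'))),
      (∀ x, φ' (algebraMap C _ x) = algebraMap (Localization.Away β) _ (φ x)) ∧
      Algebra.Etale A (Localization.Away (algebraMap A C (t * t'))) ∧
      (∀ (R : Type u) [CommRing R] (χ₁ χ₂ : Localization.Away (algebraMap A (Localization.Away β) (t * t')) →+* R),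
        χ₁.comp φ'.toRingHom = χ₂.comp φ'.toRingHom → χ₁ = χ₂) ∧
      (t ∉ p → ∃ Q : Ideal (Localization.Away (algebraMap A C (t * t'))), Q.IsPrime ∧
        Q.comap (algebraMap A _) = p) := by
  let C' := Localization.Away (algebraMap A C (t * t'))
  let B' := Localization.Away β
  let B'' := Localization.Away (algebraMap A B' (t * t'))
  let f : C →ₐ[A] B'' := (IsScalarTower.toAlgHom A B' B'').comp φ
  have hu : ∀ y : Submonoid.powers (algebraMap A C (t * t')), IsUnit (f y) := by
    rintro ⟨_, k, rfl⟩
    rw [map_pow]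
    refine IsUnit.pow k ?_
    rw [f.commutes, IsScalarTower.algebraMap_apply A B' B'']
    exact IsLocalization.map_units B'' (⟨_, 1, pow_one _⟩ : Submonoid.powers (algebraMap A B' (t * t')))
  refine ⟨IsLocalization.liftAlgHom (f := f) hu, fun x => IsLocalization.lift_eq hu x, ?_, ?_, ?_⟩
  · haveI : Algebra.Etale C C' := Algebra.Etale.of_isLocalizationAway (algebraMap A C (t * t'))
    exact Algebra.Etale.comp A C C'
  · intro R _ χ₁ χ₂ h
    refine IsLocalization.ringHom_ext (Submonoid.powers (algebraMap A B' (t * t'))) (hm R _ _ ?_ ?_)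
    · show IsUnit (χ₁ (algebraMap B' B'' (algebraMap A B' t)))
      have := IsLocalization.map_units B'' (⟨_, 1, pow_one _⟩ : Submonoid.powers (algebraMap A B' (t * t')))
      simp only [map_mul, IsUnit.mul_iff] at this
      exact this.1.map χ₁
    · refine RingHom.ext fun x => ?_
      have := RingHom.congr_fun h (algebraMap C C' x)
      have e1 : (IsLocalization.lift (S := C') hu) (algebraMap C C' x) = f x := IsLocalization.lift_eq hu x
      show χ₁ (f x) = χ₂ (f x)
      rw [← e1]
      exact this
  · intro ht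
    have hd : Disjoint (Submonoid.powers (algebraMap A C (t * t')) : Set C) ↑q := by
      rw [Set.disjoint_left]
      rintro _ ⟨k, rfl⟩ h
      have h1 : t * t' ∈ p := hqp ▸ hq.mem_of_pow_mem k h
      exact (‹p.IsPrime›.mem_or_mem h1).elim ht ht'
    refine ⟨q.map (algebraMap C C'), IsLocalization.isPrime_of_isPrime_disjoint _ C' q hq hd, ?_⟩
    rw [IsScalarTower.algebraMap_eq A C C', ← Ideal.comap_comap, ← Ideal.under_def (A := C),
      IsLocalization.under_map_of_isPrime_disjoint _ C' hq hd, hqp]

variable {S : Scheme.{u}} (sV : Spec (.of A) ⟶ S)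

/-- The affine scheme of an algebra, over the base. -/
noncomputable abbrev ovr (C : Type u) [CommRing C] [Algebra A C] : Over S :=
  Over.mk (Spec.map (CommRingCat.ofHom (algebraMap A C)) ≫ sV)

/-- The structure map. -/
noncomputable abbrev str (C : Type u) [CommRing C] [Algebra A C] : ovr sV C ⟶ Over.mk sV :=
  Over.homMk (Spec.map (CommRingCat.ofHom (algebraMap A C))) rfl

/-- The map of an algebra homomorphism. -/
noncomputable abbrev hom {C D : Type u} [CommRing C] [Algebra A C] [CommRing D] [Algebra A D] (f : C →ₐ[A] D) :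
    ovr sV D ⟶ ovr sV C :=
  Over.homMk (Spec.map (CommRingCat.ofHom f.toRingHom)) (by
    show _ ≫ Spec.map _ ≫ sV = Spec.map _ ≫ sV
    rw [← Category.assoc, ← Spec.map_comp, ← CommRingCat.ofHom_comp,
      show f.toRingHom.comp (algebraMap A C) = algebraMap A D from RingHom.ext f.commutes])

theorem hom_str {C D : Type u} [CommRing C] [Algebra A C] [CommRing D] [Algebra A D] (f : C →ₐ[A] D) :
    hom sV f ≫ str sV C = str sV D :=
  Over.OverMorphism.ext (by
    show Spec.map _ ≫ Spec.map _ = Spec.map _
    rw [← Spec.map_comp, ← CommRingCat.ofHom_comp,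
      show f.toRingHom.comp (algebraMap A C) = algebraMap A D from RingHom.ext f.commutes])

/-- A flat monomorphism to an affine scheme is affine over a neighbourhood of every image point. -/
theorem exists_nhd [Module.Flat A B] {X : Space S} (m : X.obj ⟶ (yon S).obj (Over.mk sV)) [Mono m]
    (a : (yon S).obj (ovr sV B) ⟶ X.obj) (hae : RepWith @Etale a) (has : RepWith @Surjective a)
    (ha : a ≫ m = (yon S).map (str sV B)) (u : ↥(ovr sV B).left) :
    ∃ (X' : Space S) (j : X' ⟶ X), RepWith @IsOpenImmersion j.hom ∧ X'.obj.obj.IsRepresentable ∧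
      Points.ofPt a u ∈ Set.range (Points.map j.hom) := by
  -- the projection of the self product is etale
  haveI : Algebra.Etale B (B ⊗[A] B) := by
    rw [← RingHom.etale_algebraMap]
    have sq := (IsPullback.of_hasPullback (str sV B) (str sV B)).map (yon S)
    rw [← ha] at sq
    have sq' : IsPullback ((yon S).map (pullback.fst (str sV B) (str sV B)))
        ((yon S).map (pullback.snd (str sV B) (str sV B))) a a := by
      refine IsPullback.of_isLimit (h := PullbackCone.IsLimit.mk ((cancel_mono m).1 (by simpa using sq.w))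
        (fun s => sq.lift s.fst s.snd (by rw [reassoc_of% s.condition]))
        (fun s => sq.lift_fst _ _ _) (fun s => sq.lift_snd _ _ _)
        (fun s g h1 h2 => sq.hom_ext (by rw [h1, sq.lift_fst]) (by rw [h2, sq.lift_snd])))
    have he : Etale (pullback.fst (str sV B) (str sV B)).left := hae.2 _ _ _ sq'.flip
    have sq2 : IsPullback (pullback.fst (str sV B) (str sV B)).left (pullback.snd (str sV B) (str sV B)).left
        (Spec.map (CommRingCat.ofHom (algebraMap A B))) (Spec.map (CommRingCat.ofHom (algebraMap A B))) :=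
      (IsPullback.of_hasPullback (str sV B) (str sV B)).map (Over.forget S)
    rw [← sq2.isoPullback_hom_fst, MorphismProperty.cancel_left_of_respectsIso @Etale,
      ← pullbackSpecIso_hom_fst', MorphismProperty.cancel_left_of_respectsIso @Etale,
      HasRingHomProperty.Spec_iff (P := @Etale)] at he
    exact he
  let p : Ideal A := u.asIdeal.comap (algebraMap A B)
  haveI : p.IsPrime := u.2.comap _
  obtain ⟨C, _, _, β, φ, t, q, hC, hq, hqp, ht, hm, hpts⟩ := exists_etale_local (B := B) p ⟨u.asIdeal, u.2, rfl⟩
  let B' := Localization.Away β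
  let e : ovr sV B' ⟶ ovr sV B := hom sV (IsScalarTower.toAlgHom A B B')
  -- the graph
  have graph : ∀ (C' D : Type u) [CommRing C'] [Algebra A C'] [CommRing D] [Algebra A D] (f : C' →ₐ[A] D)
      (g : B →ₐ[A] D), ((yon S).map (hom sV g) ≫ a) ≫ m = (yon S).map (hom sV f) ≫ (yon S).map (str sV C') := by
    intro C' D _ _ _ _ f g
    rw [Category.assoc, ha, ← Functor.map_comp, ← Functor.map_comp, hom_str, hom_str]
  have hstr : ∀ (C' : Type u) [CommRing C'] [Algebra A C'] [Algebra.Etale A C'],
      RepWith @Etale ((yon S).map (str sV C')) := fun C' _ _ hE => by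
    rw [repWith_yon_map_iff]
    show Etale (Spec.map (CommRingCat.ofHom (algebraMap A C')))
    rw [HasRingHomProperty.Spec_iff (P := @Etale)]
    exact RingHom.etale_algebraMap.2 hE
  let X₁ := pullback m ((yon S).map (str sV C))
  let k : (yon S).obj (ovr sV B') ⟶ X₁ := pullback.lift ((yon S).map e ≫ a) ((yon S).map (hom sV φ))
    (graph C B' φ _)
  have hfst : RepWith @Etale (pullback.fst m ((yon S).map (str sV C))) :=
    Groth.Agent.AlgSpCov.repWith_bc (IsPullback.of_hasPullback _ _).flip (hstr C)
  have he : RepWith @Etale ((yon S).map e ≫ a) := by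
    refine (RepWith @Etale : MorphismProperty (Sp S)).comp_mem _ _ ((repWith_yon_map_iff _ _).2 ?_) hae
    show Etale (Spec.map (CommRingCat.ofHom (algebraMap B B')))
    have : IsOpenImmersion (Spec.map (CommRingCat.ofHom (algebraMap B B'))) := IsOpenImmersion.of_isLocalization β
    infer_instance
  have hk : RepWith @Etale k := Groth.Agent.AlgSpCov.repWith_etale_cancel k _ hfst (by rw [pullback.lift_fst]; exact he)
  -- points of the affine cover over primes below p are in the image
  let F := C ⊗[A] B
  let wF : (yon S).obj (ovr sV F) ⟶ X₁ :=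
    pullback.lift ((yon S).map (hom sV Algebra.TensorProduct.includeRight) ≫ a)
      ((yon S).map (hom sV (Algebra.TensorProduct.includeLeft : C →ₐ[A] F))) (graph _ _ _ _)
  let Ω : Set ↥(ovr sV F).left := Points.ofPt wF ⁻¹' Set.range (Points.ofPt k)
  have hΩ : IsOpen Ω := by
    refine IsOpen.preimage (Points.continuous_ofPt wF) ?_
    have := Groth.Agent.AlgSp.isOpenMap_map_of_repWith (Groth.Agent.AlgSp.repWith_mono
      (fun g hg => (have : Etale g := hg; inferInstance : UniversallyOpen g)) hk)
    have e' : Set.range (Points.ofPt k) = Set.range (Points.map k) := by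
      ext y
      constructor
      · rintro ⟨z, rfl⟩
        exact ⟨Points.schemeHomeo _ z, rfl⟩
      · rintro ⟨z, rfl⟩
        obtain ⟨z, rfl⟩ := (Points.schemeHomeo _).surjective z
        exact ⟨z, rfl⟩
    rw [e']
    exact this.isOpen_range
  have hover : ∀ P : PrimeSpectrum F, (∀ s, s ∉ p → algebraMap A F s ∉ P.asIdeal) → P ∈ Ω := by
    intro P hP
    let K := FractionRing (F ⧸ P.asIdeal)
    let κ : F →ₐ[A] K := (IsScalarTower.toAlgHom A (F ⧸ P.asIdeal) K).comp (Ideal.Quotient.mkₐ A P.asIdeal)
    have hκ : ∀ x, κ x = 0 → x ∈ P.asIdeal := fun x hx =>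
      Ideal.Quotient.eq_zero_iff_mem.1 (IsFractionRing.injective (F ⧸ P.asIdeal) K (hx.trans (map_zero _).symm))
    let χ : C →ₐ[A] K := κ.comp Algebra.TensorProduct.includeLeft
    obtain ⟨χ', hχ'⟩ := hpts K χ.toRingHom fun s hs h => hP s hs (hκ _ (by
      rw [← h]
      show κ _ = κ _
      exact congrArg κ ((Algebra.TensorProduct.includeLeft : C →ₐ[A] F).commutes s).symm))
    have hχA : ∀ s, χ' (algebraMap A B' s) = algebraMap A K s := fun s => by
      have := RingHom.congr_fun hχ' (algebraMap A C s)
      simp only [RingHom.comp_apply, AlgHom.toRingHom_eq_coe, RingHom.coe_coe, AlgHom.commutes] at this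
      exact this
    let χA : B' →ₐ[A] K := { χ' with commutes' := hχA }
    have hz : (yon S).map (hom sV χA) ≫ k = (yon S).map (hom sV κ) ≫ wF := by
      refine pullback.hom_ext ((cancel_mono m).1 ?_) ?_
      · simp only [k, wF, Category.assoc, pullback.lift_fst, ha, ← Functor.map_comp, hom_str, e]
      · simp only [k, wF, Category.assoc, pullback.lift_snd, ← Functor.map_comp]
        congr 1
        ext : 1
        show Spec.map _ ≫ Spec.map _ = Spec.map _ ≫ Spec.map _
        rw [← Spec.map_comp, ← Spec.map_comp, ← CommRingCat.ofHom_comp, ← CommRingCat.ofHom_comp]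
        congr 2
    let o : ↥(ovr sV K).left := (⊥ : PrimeSpectrum K)
    have hoP : (hom sV κ).left o = P := PrimeSpectrum.ext (Ideal.ext fun x => by
      show κ x ∈ (⊥ : Ideal K) ↔ _
      rw [Ideal.mem_bot]
      exact ⟨hκ x, fun h => by
        show algebraMap (F ⧸ P.asIdeal) K (Ideal.Quotient.mk _ x) = 0
        rw [Ideal.Quotient.eq_zero_iff_mem.2 h, map_zero]⟩)
    refine ⟨(hom sV χA).left o, ?_⟩
    rw [← Groth.Agent.AlgSpB.ofPt_map_comp, hz, Groth.Agent.AlgSpB.ofPt_map_comp, hoP]
  obtain ⟨t', ht', hΩ'⟩ : ∃ t', t' ∉ p ∧ ∀ P : PrimeSpectrum F, algebraMap A F t' ∉ P.asIdeal → P ∈ Ω := by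
    obtain ⟨I, hI⟩ := (PrimeSpectrum.isClosed_iff_zeroLocus_ideal _).1 hΩ.isClosed_compl
    by_cases hd : Disjoint (I : Set F) (p.primeCompl.map (algebraMap A F) : Set F)
    · obtain ⟨P, hP, hIP, hPd⟩ := Ideal.exists_le_prime_disjoint I _ hd
      exfalso
      have h1 : (⟨P, hP⟩ : PrimeSpectrum F) ∈ Ωᶜ := by
        rw [hI]
        exact hIP
      exact h1 (hover ⟨P, hP⟩ fun s hs h => Set.disjoint_left.1 hPd h ⟨s, hs, rfl⟩)
    · obtain ⟨_, hxI, s, hs, rfl⟩ := Set.not_disjoint_iff.1 hd
      refine ⟨s, hs, fun P hP => by_contra fun hPΩ => hP ?_⟩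
      have : P ∈ PrimeSpectrum.zeroLocus (I : Set F) := hI ▸ hPΩ
      exact this hxI
  -- localize
  obtain ⟨φ', hφ', hC', hm', hQ⟩ := exists_localized p φ t t' q hqp ht' hm
  obtain ⟨Q, hQp, hQA⟩ := hQ ht
  let C' := Localization.Away (algebraMap A C (t * t'))
  let B'' := Localization.Away (algebraMap A B' (t * t'))
  let lC : ovr sV C' ⟶ ovr sV C := hom sV (IsScalarTower.toAlgHom A C C')
  let lB : ovr sV B'' ⟶ ovr sV B' := hom sV (IsScalarTower.toAlgHom A B' B'')
  let X₂ := pullback m ((yon S).map (str sV C'))
  have hX₂ : IsAlgSpace X₂ := Groth.Agent.AlgSp.isAlgSpace_pullback (IsAlgSpace.yon_obj _) X.property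
    (IsAlgSpace.yon_obj _) _ _
  let k' : (yon S).obj (ovr sV B'') ⟶ X₂ := pullback.lift ((yon S).map (lB ≫ e) ≫ a) ((yon S).map (hom sV φ'))
    (by rw [Category.assoc, ha, ← Functor.map_comp, ← Functor.map_comp, Category.assoc, hom_str, hom_str, hom_str])
  have hk' : RepWith @Etale k' := by
    refine Groth.Agent.AlgSpCov.repWith_etale_cancel k' _
      (Groth.Agent.AlgSpCov.repWith_bc (IsPullback.of_hasPullback m ((yon S).map (str sV C'))).flip (hstr C')) ?_
    rw [pullback.lift_fst, Functor.map_comp, Category.assoc]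
    refine (RepWith @Etale : MorphismProperty (Sp S)).comp_mem _ _ ((repWith_yon_map_iff _ _).2 ?_) he
    show Etale (Spec.map (CommRingCat.ofHom (algebraMap B' B'')))
    have : IsOpenImmersion (Spec.map (CommRingCat.ofHom (algebraMap B' B''))) :=
      IsOpenImmersion.of_isLocalization (algebraMap A B' (t * t'))
    infer_instance
  have : Mono (hom sV φ') := by
    constructor
    intro W g₁ g₂ h
    ext : 1
    have hh : g₁.left ≫ Spec.map (CommRingCat.ofHom φ'.toRingHom) = g₂.left ≫ Spec.map (CommRingCat.ofHom φ'.toRingHom) :=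
      congrArg CommaMorphism.left h
    have : Mono (Spec.map (CommRingCat.ofHom φ'.toRingHom)) := by
      have : Epi (CommRingCat.ofHom φ'.toRingHom) := ⟨fun {R} x y hxy => CommRingCat.hom_ext
        (hm' R x.hom y.hom (congrArg CommRingCat.Hom.hom hxy))⟩
      have := Functor.map_mono Scheme.Spec (CommRingCat.ofHom φ'.toRingHom).op
      exact this
    exact (cancel_mono _).1 hh
  have : Mono k' := by
    have : Mono (k' ≫ pullback.snd m ((yon S).map (str sV C'))) := by
      rw [pullback.lift_snd]
      infer_instance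
    exact mono_of_mono k' (pullback.snd m ((yon S).map (str sV C')))
  let π : X₂ ⟶ X₁ := pullback.lift (pullback.fst m _) (pullback.snd m _ ≫ (yon S).map lC)
    (by rw [pullback.condition, Category.assoc, ← Functor.map_comp, hom_str])
  have hksq : k' ≫ π = (yon S).map lB ≫ k := by
    refine pullback.hom_ext ?_ ?_
    · simp only [π, k, k', Category.assoc, pullback.lift_fst, Functor.map_comp]
    · simp only [π, k, k', Category.assoc, pullback.lift_snd, pullback.lift_snd_assoc, ← Functor.map_comp]
      congr 1
      ext : 1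
      show Spec.map _ ≫ Spec.map _ = Spec.map _ ≫ Spec.map _
      rw [← Spec.map_comp, ← Spec.map_comp, ← CommRingCat.ofHom_comp, ← CommRingCat.ofHom_comp]
      congr 2
      exact RingHom.ext hφ'
  have : IsOpenImmersion (Spec.map (CommRingCat.ofHom (algebraMap C C'))) :=
    IsOpenImmersion.of_isLocalization (algebraMap A C (t * t'))
  have : Mono lC := (Over.forget S).mono_of_mono_map (show Mono (Spec.map (CommRingCat.ofHom (algebraMap C C'))) by infer_instance)
  have : Mono π := ⟨fun g₁ g₂ h => by
    refine pullback.hom_ext ?_ ?_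
    · simpa [π] using congrArg (· ≫ pullback.fst m _) h
    · refine (cancel_mono ((yon S).map lC)).1 ?_
      simpa [π] using congrArg (· ≫ pullback.snd m _) h⟩
  have hs' : IsSurjectiveMor k' := by
    let F' := C' ⊗[A] B
    let wF' : (yon S).obj (ovr sV F') ⟶ X₂ :=
      pullback.lift ((yon S).map (hom sV Algebra.TensorProduct.includeRight) ≫ a)
        ((yon S).map (hom sV (Algebra.TensorProduct.includeLeft : C' →ₐ[A] F'))) (graph _ _ _ _)
    let iF : F →ₐ[A] F' := Algebra.TensorProduct.map (IsScalarTower.toAlgHom A C C') (AlgHom.id A B)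
    have hw : wF' ≫ π = (yon S).map (hom sV iF) ≫ wF := by
      refine pullback.hom_ext ((cancel_mono m).1 ?_) ?_
      · simp only [π, wF, wF', Category.assoc, pullback.lift_fst, ha, ← Functor.map_comp, hom_str]
      · simp only [π, wF, wF', Category.assoc, pullback.lift_snd, pullback.lift_snd_assoc, ← Functor.map_comp]
        congr 1
        ext : 1
        show Spec.map _ ≫ Spec.map _ = Spec.map _ ≫ Spec.map _
        rw [← Spec.map_comp, ← Spec.map_comp, ← CommRingCat.ofHom_comp, ← CommRingCat.ofHom_comp]
        congr 2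
    have key : ∀ {T T' : Over S} (f : T ⟶ T') (x : ↥T.left),
        Points.ofPt ((yon S).map f) x = Points.schemeHomeo T' (f.left x) := fun f x => by
      rw [← Category.comp_id ((yon S).map f), Groth.Agent.AlgSpB.ofPt_map_comp]
      rfl
    intro y
    -- every point of `X₂` comes from the affine cover
    obtain ⟨y₀, rfl⟩ : ∃ y₀, Points.ofPt wF' y₀ = y := by
      have bigS : IsPullback (Spec.map (CommRingCat.ofHom (Algebra.TensorProduct.includeLeftRingHom : C' →+* F')))
          (Spec.map (CommRingCat.ofHom (Algebra.TensorProduct.includeRight : B →ₐ[A] F').toRingHom))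
          (Spec.map (CommRingCat.ofHom (algebraMap A C'))) (Spec.map (CommRingCat.ofHom (algebraMap A B))) :=
        isPullback_SpecMap_of_isPushout _ _ _ _ (CommRingCat.isPushout_tensorProduct A C' B)
      have big : IsPullback (hom sV (Algebra.TensorProduct.includeLeft : C' →ₐ[A] F'))
          (hom sV (Algebra.TensorProduct.includeRight : B →ₐ[A] F')) (str sV C') (str sV B) :=
        IsPullback.of_map (Over.forget S) (by rw [hom_str, hom_str]) bigS
      have big' := (big.map (yon S)).flip
      rw [← ha] at big'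
      have sq : IsPullback ((yon S).map (hom sV (Algebra.TensorProduct.includeRight : B →ₐ[A] F'))) wF' a
          (pullback.fst m ((yon S).map (str sV C'))) := by
        refine IsPullback.of_bot ?_ (pullback.lift_fst _ _ _).symm (IsPullback.of_hasPullback m ((yon S).map (str sV C')))
        rw [pullback.lift_snd]
        exact big'
      obtain ⟨x₀, hx₀⟩ := (Groth.Agent.AlgSp.repWith_surjective_iff a has.1).1 has
        (Points.map (pullback.fst m ((yon S).map (str sV C'))) y)
      obtain ⟨z, -, hz⟩ := Groth.Agent.AlgSpB.exists_of_isPullback sq x₀ y hx₀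
      obtain ⟨z, rfl⟩ := (Points.schemeHomeo _).surjective z
      exact ⟨z, hz⟩
    have h1 : (hom sV iF).left y₀ ∈ Ω := hΩ' _ (by
      show algebraMap A F t' ∉ Ideal.comap iF.toRingHom y₀.asIdeal
      rw [Ideal.mem_comap, AlgHom.toRingHom_eq_coe, RingHom.coe_coe, iF.commutes]
      intro h
      have hu : IsUnit (algebraMap A F' t') := by
        rw [IsScalarTower.algebraMap_apply A C' F']
        refine IsUnit.map _ ?_
        have := IsLocalization.map_units C' (⟨_, 1, pow_one _⟩ : Submonoid.powers (algebraMap A C (t * t')))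
        simp only [map_mul, IsUnit.mul_iff] at this
        rw [IsScalarTower.algebraMap_apply A C C']
        exact this.2
      exact y₀.2.ne_top (Ideal.eq_top_of_isUnit_mem _ h hu))
    obtain ⟨z, hz⟩ := h1
    have h2 : (hom sV φ).left z = lC.left ((hom sV (Algebra.TensorProduct.includeLeft : C' →ₐ[A] F')).left y₀) := by
      have := congrArg (Points.map (pullback.snd m ((yon S).map (str sV C)))) hz
      rw [Points.map_ofPt, Points.map_ofPt, ← Groth.Agent.AlgSpB.ofPt_map_comp] at this
      rw [← Category.assoc, ← hw, Category.assoc] at this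
      simp only [k, π, wF', pullback.lift_snd, pullback.lift_snd_assoc, ← Functor.map_comp] at this
      rw [key, key] at this
      exact (Points.schemeHomeo (ovr sV C)).injective this
    have h3 : algebraMap A B' (t * t') ∉ z.asIdeal := fun h => by
      have : algebraMap A C (t * t') ∈ ((hom sV φ).left z).asIdeal := by
        show φ.toRingHom _ ∈ z.asIdeal
        simpa using h
      rw [h2] at this
      exact ((hom sV (Algebra.TensorProduct.includeLeft : C' →ₐ[A] F')).left y₀).2.ne_top
        (Ideal.eq_top_of_isUnit_mem _ (show algebraMap C C' (algebraMap A C (t * t')) ∈ _ from this)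
        (IsLocalization.map_units C' (⟨_, 1, pow_one _⟩ : Submonoid.powers (algebraMap A C (t * t')))))
    obtain ⟨z', rfl⟩ : ∃ z', lB.left z' = z := by
      have := (PrimeSpectrum.localization_away_comap_range B'' (algebraMap A B' (t * t'))).symm.le h3
      exact this
    refine ⟨Points.schemeHomeo _ z', Groth.Agent.AlgSpB.injective_map_of_mono π ?_⟩
    show Points.map π (Points.ofPt k' z') = Points.map π (Points.ofPt wF' y₀)
    rw [Points.map_ofPt, Points.map_ofPt, hksq, hw, Groth.Agent.AlgSpB.ofPt_map_comp, Groth.Agent.AlgSpB.ofPt_map_comp, hz]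
  have hk'e : IsEtaleMor k' := fun _ _ hφ => (RepWith @Etale : MorphismProperty (Sp S)).comp_mem _ _ hφ hk'
  haveI : IsIso k' := Groth.Agent.AlgSpCov.isIso_of_mono_isEtaleMor (IsAlgSpace.yon_obj _) k' hk'e hs'
  have haff : RepWith @IsAffineHom (pullback.snd m ((yon S).map (str sV C'))) := by
    rw [← IsIso.inv_hom_id_assoc k' (pullback.snd m ((yon S).map (str sV C'))), pullback.lift_snd,
      MorphismProperty.cancel_left_of_respectsIso (RepWith @IsAffineHom), repWith_yon_map_iff]
    show IsAffineHom (Spec.map _)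
    infer_instance
  -- the open
  let V : Over S := Over.mk sV
  have hCet : Etale (str sV C').left := (repWith_yon_map_iff _ _).1 (hstr C')
  let O : V.left.Opens := ⟨Set.range (str sV C').left, (str sV C').left.isOpenMap.isOpen_range⟩
  let W : Over S := Over.mk (O.ι ≫ V.hom)
  let ιW : W ⟶ V := Over.homMk O.ι rfl
  let g : ovr sV C' ⟶ W := Over.homMk (IsOpenImmersion.lift O.ι (str sV C').left ((Scheme.Opens.range_ι O).symm ▸ le_refl _))
    (by
      show IsOpenImmersion.lift _ _ _ ≫ O.ι ≫ V.hom = _
      rw [IsOpenImmersion.lift_fac_assoc]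
      rfl)
  have hg : g ≫ ιW = str sV C' := Over.OverMorphism.ext (IsOpenImmersion.lift_fac _ _ _)
  have hge : Etale g.left := by
    have : Etale (g.left ≫ O.ι) := by
      rw [show g.left ≫ O.ι = (str sV C').left from congrArg CommaMorphism.left hg]
      exact hCet
    exact MorphismProperty.of_postcomp (W := @Etale) (W' := @Etale) g.left O.ι (inferInstance : Etale O.ι) this
  have hgs : Surjective g.left := ⟨fun w => by
    obtain ⟨c, hc⟩ := w.2
    refine ⟨c, Scheme.Opens.ι O |>.isOpenEmbedding.injective ?_⟩
    show (g.left ≫ O.ι) c = _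
    rw [show g.left ≫ O.ι = (str sV C').left from congrArg CommaMorphism.left hg]
    exact hc⟩
  have := Groth.Agent.AlgSp.isLocallySurjective_of_etale_surjective ((yon S).map g)
    ((repWith_yon_map_iff _ _).2 hge) ((repWith_yon_map_iff _ _).2 hgs)
  let Z := pullback m ((yon S).map ιW)
  have hj : RepWith @IsOpenImmersion (pullback.fst m ((yon S).map ιW)) :=
    Groth.Agent.AlgSpCov.repWith_bc (IsPullback.of_hasPullback _ _).flip
      ((repWith_yon_map_iff _ _).2 (inferInstanceAs (IsOpenImmersion O.ι)))
  have hZ : IsAlgSpace Z := Groth.Agent.AlgSp.isAlgSpace_pullback (IsAlgSpace.yon_obj _) X.property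
    (IsAlgSpace.yon_obj _) _ _
  have sq : IsPullback (pullback.lift (pullback.fst m ((yon S).map (str sV C'))) (pullback.snd m _ ≫ (yon S).map g)
      (by rw [pullback.condition, Category.assoc, ← Functor.map_comp, hg]) : X₂ ⟶ Z)
      (pullback.snd m ((yon S).map (str sV C'))) (pullback.snd m ((yon S).map ιW)) ((yon S).map g) := by
    refine IsPullback.of_right ?_ (by rw [pullback.lift_snd]) (IsPullback.of_hasPullback m ((yon S).map ιW))
    rw [pullback.lift_fst, ← Functor.map_comp, hg]
    exact IsPullback.of_hasPullback _ _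
  have hrep := Groth.Agent.AlgSp.repWith_isAffineHom_of_baseChange _ _ sq haff
  refine ⟨⟨Z, hZ⟩, ObjectProperty.homMk (pullback.fst m ((yon S).map ιW)), hj, ?_, ?_⟩
  · obtain ⟨W', q', p', sq'⟩ := hrep.1 (𝟙 ((yon S).obj W))
    have : IsIso p' := sq'.isIso_fst_of_isIso
    exact Groth.Agent.AlgSpB.isRepresentable_of_iso (asIso p')
  · have hpO : (str sV B).left u ∈ O := ⟨⟨Q, hQp⟩, PrimeSpectrum.ext hQA⟩
    obtain ⟨w, hw1, hw2⟩ := Groth.Agent.AlgSpB.exists_of_isPullback (IsPullback.of_hasPullback m ((yon S).map ιW))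
      (Points.ofPt a u) (Points.schemeHomeo W ⟨_, hpO⟩) (by
        rw [Points.map_ofPt, ha, ← Category.comp_id ((yon S).map (str sV B)),
          Groth.Agent.AlgSpB.ofPt_map_comp]
        show _ = Points.map _ (Points.ofPt (𝟙 _) _)
        rw [Points.map_ofPt, Category.id_comp, ← Category.comp_id ((yon S).map ιW),
          Groth.Agent.AlgSpB.ofPt_map_comp]
        rfl)
    exact ⟨w, hw1⟩

end Groth.Agent.FlatMono
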