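import Mathlib.RingTheory.Etale.Descent
import Mathlib.RingTheory.Etale.Locus
import Mathlib.RingTheory.MvPolynomial.Localization
import Mathlib.RingTheory.Localization.BaseChange
import Mathlib.RingTheory.Localization.LocalizationLocalization
import Mathlib.RingTheory.Flat.FaithfullyFlat.Algebra
import Mathlib.RingTheory.Flat.Stability

/-!
# Flat ring epimorphisms with an etale chart are etale locally trivial
-/

universe u

open TensorProduct

set_option autoImplicit false
set_option linter.style.haveILetI false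

namespace Groth.Agent.FlatMono

variable {A B : Type u} [CommRing A] [CommRing B] [Algebra A B] [Module.Flat A B]

section Local

variable (S E : Type u) [CommRing S] [CommRing E] [Algebra A S] [Algebra B E] [Algebra A E] [Algebra S E]
  [IsScalarTower A S E] [IsScalarTower A B E]

omit [Module.Flat A B] in
theorem etale_selfTensor [Algebra.Etale B (B ⊗[A] B)] [Algebra.IsPushout A S B E] :
    Algebra.Etale E (E ⊗[S] E) := by
  haveI : Algebra.Etale E (E ⊗[A] B) :=
    .of_equiv (Algebra.TensorProduct.cancelBaseChange A B E E B)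
  let e₁ : E ⊗[S] E ≃ₐ[E] E ⊗[S] (S ⊗[A] B) :=
    Algebra.TensorProduct.congr AlgEquiv.refl (Algebra.IsPushout.equiv A S B E).symm
  exact .of_equiv ((e₁.trans (Algebra.TensorProduct.cancelBaseChange A S E E B)).symm)

end Local

/-- Over a prime in the image the localized map is etale. -/
theorem etale_localization [Algebra.Etale B (B ⊗[A] B)] (p : Ideal A) [p.IsPrime]
    (hp : ∃ Q : Ideal B, Q.IsPrime ∧ Q.comap (algebraMap A B) = p) :
    Algebra.Etale (Localization.AtPrime p) (Localization (Algebra.algebraMapSubmonoid B p.primeCompl)) := by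
  let S := Localization.AtPrime p
  let E := Localization (Algebra.algebraMapSubmonoid B p.primeCompl)
  haveI : Algebra.IsPushout A B S E := Algebra.isPushout_of_isLocalization p.primeCompl _ _ _
  haveI : Algebra.IsPushout A S B E := Algebra.IsPushout.symm inferInstance
  haveI := etale_selfTensor S E (B := B) (A := A)
  haveI : Module.Flat S E := Module.Flat.isBaseChange A S B E
    (Algebra.IsPushout.out : IsBaseChange S (IsScalarTower.toAlgHom A B E).toLinearMap)
  haveI : Module.FaithfullyFlat S E := by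
    obtain ⟨Q, hQ, hQp⟩ := hp
    have hdisj : Disjoint (Algebra.algebraMapSubmonoid B p.primeCompl : Set B) ↑Q := by
      rw [Set.disjoint_left]
      rintro _ ⟨s, hs, rfl⟩ h
      exact hs (hQp ▸ h)
    let QE := Q.map (algebraMap B E)
    have hQE : QE.IsPrime := IsLocalization.isPrime_of_isPrime_disjoint _ E Q hQ hdisj
    refine Module.FaithfullyFlat.of_comap_surjective fun P => ?_
    haveI : Algebra.HasGoingDown S E := Algebra.HasGoingDown.of_flat
    have hle : P.asIdeal ≤ QE.comap (algebraMap S E) := by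
      have : QE.comap (algebraMap S E) = IsLocalRing.maximalIdeal S := by
        rw [← IsLocalization.map_under p.primeCompl S (QE.comap (algebraMap S E)),
          ← IsLocalization.AtPrime.map_eq_maximalIdeal p S]
        congr 1
        rw [Ideal.under_def, Ideal.comap_comap, ← IsScalarTower.algebraMap_eq, IsScalarTower.algebraMap_eq A B E,
          ← Ideal.comap_comap, ← Ideal.under_def (A := B), IsLocalization.under_map_of_isPrime_disjoint _ E hQ hdisj, hQp]
      rw [this]
      exact IsLocalRing.le_maximalIdeal P.2.ne_top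
    haveI : (QE.comap (algebraMap S E)).IsPrime := Ideal.IsPrime.comap _
    haveI : QE.LiesOver (QE.comap (algebraMap S E)) := ⟨rfl⟩
    obtain ⟨R, -, hR, hR'⟩ := Ideal.exists_ideal_le_liesOver_of_le (p := P.asIdeal) QE hle
    exact ⟨⟨R, hR⟩, PrimeSpectrum.ext hR'.over.symm⟩
  exact Algebra.Etale.of_etale_tensorProduct_of_faithfullyFlat (T := E)

omit [Module.Flat A B] in
/-- A finitely presented model over `A` of the localization, with generators from `B`. -/
theorem exists_model (p : Ideal A) [p.IsPrime]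
    [Algebra.FinitePresentation (Localization.AtPrime p) (Localization (Algebra.algebraMapSubmonoid B p.primeCompl))] :
    ∃ (n : ℕ) (b : Fin n → B) (r : Finset (MvPolynomial (Fin n) A)) (g : A), g ∉ p ∧
      (∀ f ∈ r, algebraMap A B g * MvPolynomial.aeval b f = 0) ∧
      (∀ y : B, ∃ t, t ∉ p ∧ ∃ P : MvPolynomial (Fin n) A, MvPolynomial.aeval b P = algebraMap A B t * y) ∧
      ∀ P : MvPolynomial (Fin n) A, MvPolynomial.aeval b P = 0 → ∃ t, t ∉ p ∧ MvPolynomial.C t * P ∈ Ideal.span (r : Set _) := by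
  classical
  let S := Localization.AtPrime p
  let E := Localization (Algebra.algebraMapSubmonoid B p.primeCompl)
  obtain ⟨n, f, hf, -⟩ := Algebra.FinitePresentation.out (R := S) (A := E)
  choose bs hbs using fun i : Fin n => IsLocalization.surj (Algebra.algebraMapSubmonoid B p.primeCompl) (f (MvPolynomial.X i))
  let b : Fin n → B := fun i => (bs i).1
  choose t ht hts using fun i : Fin n => (bs i).2.2
  let f' : MvPolynomial (Fin n) S →ₐ[S] E := MvPolynomial.aeval fun i => algebraMap B E (b i)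
  have hf' : Function.Surjective f' := by
    rw [← AlgHom.range_eq_top, eq_top_iff, ← (AlgHom.range_eq_top f).2 hf, ← MvPolynomial.aeval_unique f |>.symm,
      MvPolynomial.aeval_range, Algebra.adjoin_le_iff]
    rintro _ ⟨i, rfl⟩
    refine ⟨MvPolynomial.C (IsLocalization.mk' S 1 (⟨t i, ht i⟩ : p.primeCompl)) * MvPolynomial.X i, ?_⟩
    show f' _ = f (MvPolynomial.X i)
    rw [map_mul, MvPolynomial.aeval_X, MvPolynomial.aeval_C, ← hbs i, mul_left_comm, ← hts i,
      ← IsScalarTower.algebraMap_apply A B E, IsScalarTower.algebraMap_apply A S E, ← map_mul,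
      IsLocalization.mk'_spec, map_one, map_one, mul_one]
  obtain ⟨F, hF⟩ := Algebra.FinitePresentation.ker_fG_of_surjective f' hf'
  let κ := MvPolynomial.map (σ := Fin n) (algebraMap A S)
  have hκ : ∀ P, f' (κ P) = algebraMap B E (MvPolynomial.aeval b P) := fun P => by
    rw [MvPolynomial.aeval_map_algebraMap]
    exact MvPolynomial.aeval_algebraMap_apply E b P
  letI : Algebra (MvPolynomial (Fin n) A) (MvPolynomial (Fin n) S) := κ.toAlgebra
  haveI hloc : IsLocalization (p.primeCompl.map <| MvPolynomial.C (σ := Fin n)) (MvPolynomial (Fin n) S) :=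
    MvPolynomial.isLocalization p.primeCompl S
  choose pr hpr using fun F : MvPolynomial (Fin n) S =>
    IsLocalization.surj (p.primeCompl.map <| MvPolynomial.C (σ := Fin n)) F
  have hzero : ∀ x : B, algebraMap B E x = 0 → ∃ s, s ∉ p ∧ algebraMap A B s * x = 0 := fun x hx => by
    obtain ⟨⟨_, s, hs, rfl⟩, h⟩ := (IsLocalization.map_eq_zero_iff (Algebra.algebraMapSubmonoid B p.primeCompl) E x).1 hx
    exact ⟨s, hs, h⟩
  let r : Finset (MvPolynomial (Fin n) A) := F.image fun G => (pr G).1
  have hr : ∀ P ∈ r, ∃ s, s ∉ p ∧ algebraMap A B s * MvPolynomial.aeval b P = 0 := fun P hP => by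
    obtain ⟨G, hG, rfl⟩ := Finset.mem_image.1 hP
    refine hzero _ ?_
    rw [← hκ, show κ (pr G).1 = _ from (hpr G).symm, map_mul]
    rw [show f' G = 0 from RingHom.mem_ker.1 (hF ▸ Ideal.subset_span hG), zero_mul]
  choose s hs hs' using hr
  refine ⟨n, b, r, ∏ P ∈ r.attach, s P.1 P.2, fun h => ?_, fun P hP => ?_, fun y => ?_, fun P hP => ?_⟩
  · obtain ⟨P, -, hP⟩ := (Ideal.IsPrime.prod_mem_iff (p := p)).1 h
    exact hs _ _ hP
  · obtain ⟨c, hc⟩ := Finset.dvd_prod_of_mem (fun P : {x // x ∈ r} => s P.1 P.2) (Finset.mem_attach r ⟨P, hP⟩)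
    rw [hc, map_mul, mul_right_comm, hs', zero_mul]
  · obtain ⟨G, hG⟩ := hf' (algebraMap B E y)
    obtain ⟨⟨P, ⟨_, s₀, hs₀, rfl⟩⟩, hP⟩ := IsLocalization.surj (p.primeCompl.map <| MvPolynomial.C (σ := Fin n)) G
    have : algebraMap B E (MvPolynomial.aeval b P - algebraMap A B s₀ * y) = 0 := by
      rw [map_sub, map_mul, ← hκ, show κ P = _ from hP.symm, map_mul, hG, RingHom.algebraMap_toAlgebra,
        hκ, MvPolynomial.aeval_C, mul_comm, sub_self]
    obtain ⟨s₁, hs₁, h₁⟩ := hzero _ this
    refine ⟨s₁ * s₀, fun h => (‹p.IsPrime›.mem_or_mem h).elim hs₁ hs₀, MvPolynomial.C s₁ * P, ?_⟩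
    rw [map_mul, MvPolynomial.aeval_C, map_mul, mul_assoc]
    rwa [mul_sub, sub_eq_zero] at h₁
  · have h0 : κ P ∈ RingHom.ker f' := by rw [RingHom.mem_ker, hκ, hP, map_zero]
    replace h0 : κ P ∈ Ideal.span (F : Set (MvPolynomial (Fin n) S)) := hF.symm ▸ h0
    have hle : Ideal.span (F : Set (MvPolynomial (Fin n) S)) ≤ (Ideal.span (r : Set _)).map κ := by
      refine Ideal.span_le.2 fun G hG => ?_
      have : κ (pr G).1 ∈ (Ideal.span (r : Set _)).map κ :=
        Ideal.mem_map_of_mem _ (Ideal.subset_span (Finset.mem_coe.2 (Finset.mem_image.2 ⟨G, hG, rfl⟩)))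
      rw [show κ (pr G).1 = _ from (hpr G).symm] at this
      exact (Ideal.mul_unit_mem_iff_mem _ (IsLocalization.map_units (MvPolynomial (Fin n) S) (pr G).2)).1 this
    obtain ⟨⟨_, t, ht', rfl⟩, h⟩ :=
      (IsLocalization.algebraMap_mem_map_algebraMap_iff (p.primeCompl.map <| MvPolynomial.C (σ := Fin n)) _ _ P).1 (hle h0) |> fun ⟨m, hm, h⟩ => (⟨⟨m, hm⟩, h⟩ : ∃ m : p.primeCompl.map <| MvPolynomial.C (σ := Fin n), m.1 * P ∈ _)
    exact ⟨t, ht', h⟩

/-- A flat algebra with etale self tensor product is, etale locally around a prime in its image, epimorphic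
and surjective. -/
theorem exists_etale_local [Algebra.Etale B (B ⊗[A] B)] (p : Ideal A) [p.IsPrime]
    (hp : ∃ Q : Ideal B, Q.IsPrime ∧ Q.comap (algebraMap A B) = p) :
    ∃ (C : Type u) (_ : CommRing C) (_ : Algebra A C) (β : B) (φ : C →ₐ[A] Localization.Away β) (t : A)
      (q : Ideal C), Algebra.Etale A C ∧ q.IsPrime ∧ q.comap (algebraMap A C) = p ∧ t ∉ p ∧
      (∀ (R : Type u) [CommRing R] (χ₁ χ₂ : Localization.Away β →+* R),
        IsUnit (χ₁ (algebraMap A _ t)) → χ₁.comp φ.toRingHom = χ₂.comp φ.toRingHom → χ₁ = χ₂) ∧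
      (∀ (K : Type u) [Field K] (χ : C →+* K), (∀ s, s ∉ p → χ (algebraMap A C s) ≠ 0) →
        ∃ χ' : Localization.Away β →+* K, χ'.comp φ.toRingHom = χ) := by
  classical
  let S := Localization.AtPrime p
  let E := Localization (Algebra.algebraMapSubmonoid B p.primeCompl)
  haveI : Algebra.Etale S E := etale_localization p hp
  obtain ⟨n, b, r, g, hg, hrel, hsurj, hinj⟩ := exists_model (B := B) p
  obtain ⟨Q, hQ, hQp⟩ := hp
  let P₀ := MvPolynomial (Fin n) A
  let I : Ideal P₀ := Ideal.span (r : Set P₀)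
  have hunit : ∀ s, s ∉ p → IsUnit (algebraMap B E (algebraMap A B s)) := fun s hs =>
    IsLocalization.map_units E (⟨_, s, hs, rfl⟩ : Algebra.algebraMapSubmonoid B p.primeCompl)
  let ev : P₀ →ₐ[A] E := (IsScalarTower.toAlgHom A B E).comp (MvPolynomial.aeval b)
  have hev : ∀ x ∈ I, ev x = 0 := by
    have : I ≤ RingHom.ker ev.toRingHom := Ideal.span_le.2 fun f hf => by
      refine RingHom.mem_ker.2 ((hunit g hg).mul_right_eq_zero.1 ?_)
      show algebraMap B E _ * algebraMap B E (MvPolynomial.aeval b f) = 0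
      rw [← map_mul, hrel f hf, map_zero]
    exact fun x hx => RingHom.mem_ker.1 (this hx)
  let C₀ := P₀ ⧸ I
  let ψ : C₀ →ₐ[A] E := Ideal.Quotient.liftₐ I ev hev
  letI : Algebra C₀ E := ψ.toAlgebra
  haveI : IsScalarTower A C₀ E := IsScalarTower.of_algebraMap_eq fun a => (ψ.commutes a).symm
  have hψ : ∀ P, algebraMap C₀ E (Ideal.Quotient.mk I P) = algebraMap B E (MvPolynomial.aeval b P) :=
    fun P => Ideal.Quotient.lift_mk I ev.toRingHom hev
  haveI hloc : IsLocalization (Algebra.algebraMapSubmonoid C₀ p.primeCompl) E := by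
    refine ⟨?_, ?_, ?_⟩
    · rintro ⟨_, s, hs, rfl⟩
      rw [← IsScalarTower.algebraMap_apply, IsScalarTower.algebraMap_apply A B E]
      exact hunit s hs
    · intro z
      obtain ⟨⟨y, _, s, hs, rfl⟩, h⟩ := IsLocalization.surj (Algebra.algebraMapSubmonoid B p.primeCompl) z
      obtain ⟨t, ht, P, hP⟩ := hsurj y
      refine ⟨⟨Ideal.Quotient.mk I P, _, t * s, p.primeCompl.mul_mem ht hs, rfl⟩, ?_⟩
      rw [hψ, hP, ← IsScalarTower.algebraMap_apply, IsScalarTower.algebraMap_apply A B E, map_mul, map_mul,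
        map_mul, mul_left_comm]
      exact congrArg _ h
    · intro x y hxy
      obtain ⟨P, rfl⟩ := Ideal.Quotient.mk_surjective x
      obtain ⟨R, rfl⟩ := Ideal.Quotient.mk_surjective y
      rw [← sub_eq_zero, hψ, hψ, ← map_sub, ← map_sub] at hxy
      obtain ⟨⟨_, s, hs, rfl⟩, h⟩ :=
        (IsLocalization.map_eq_zero_iff (Algebra.algebraMapSubmonoid B p.primeCompl) E _).1 hxy
      obtain ⟨t, ht, hI⟩ := hinj (MvPolynomial.C s * (P - R))
        (by rw [map_mul, MvPolynomial.aeval_C]; exact h)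
      refine ⟨⟨_, t * s, p.primeCompl.mul_mem ht hs, rfl⟩, ?_⟩
      show algebraMap A C₀ (t * s) * _ = algebraMap A C₀ (t * s) * _
      rw [← sub_eq_zero, ← mul_sub, ← map_sub, IsScalarTower.algebraMap_apply A P₀ C₀,
        Ideal.Quotient.algebraMap_eq, ← map_mul, Ideal.Quotient.eq_zero_iff_mem, MvPolynomial.algebraMap_eq,
        map_mul, mul_assoc]
      exact hI
  -- a prime and its etale neighbourhood
  have hdisj : Disjoint (Algebra.algebraMapSubmonoid B p.primeCompl : Set B) ↑Q := by
    rw [Set.disjoint_left]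
    rintro _ ⟨s, hs, rfl⟩ h
    exact hs (hQp ▸ h)
  let QE := Q.map (algebraMap B E)
  haveI hQE : QE.IsPrime := IsLocalization.isPrime_of_isPrime_disjoint _ E Q hQ hdisj
  let q₀ : Ideal C₀ := QE.comap (algebraMap C₀ E)
  have hq₀A : q₀.comap (algebraMap A C₀) = p := by
    rw [Ideal.comap_comap, ← IsScalarTower.algebraMap_eq, IsScalarTower.algebraMap_eq A B E,
      ← Ideal.comap_comap, ← Ideal.under_def (A := B),
      IsLocalization.under_map_of_isPrime_disjoint _ E hQ hdisj, hQp]
  haveI : q₀.IsPrime := Ideal.IsPrime.comap _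
  have het : Algebra.IsEtaleAt A q₀ := by
    let T := Localization.AtPrime QE
    haveI : IsLocalization.AtPrime T q₀ :=
      IsLocalization.isLocalization_isLocalization_atPrime_isLocalization
        (Algebra.algebraMapSubmonoid C₀ p.primeCompl) T QE
    haveI : Algebra.FormallyEtale A S := Algebra.FormallyEtale.of_isLocalization p.primeCompl
    haveI : Algebra.FormallyEtale A E := Algebra.FormallyEtale.comp A S E
    haveI : Algebra.FormallyEtale E T := Algebra.FormallyEtale.of_isLocalization QE.primeCompl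
    haveI : Algebra.FormallyEtale A T := Algebra.FormallyEtale.comp A E T
    exact Algebra.FormallyEtale.of_equiv
      ((IsLocalization.algEquiv q₀.primeCompl T (Localization.AtPrime q₀)).restrictScalars A)
  haveI : Algebra.FinitePresentation A C₀ := Algebra.FinitePresentation.quotient ⟨r, rfl⟩
  obtain ⟨_, ⟨c, rfl⟩, hc, hcU⟩ := PrimeSpectrum.isTopologicalBasis_basic_opens.exists_subset_of_mem_open
    (show (⟨q₀, inferInstance⟩ : PrimeSpectrum C₀) ∈ Algebra.etaleLocus A C₀ from het) Algebra.isOpen_etaleLocus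
  haveI : Algebra.FormallyEtale A (Localization.Away c) := Algebra.basicOpen_subset_etaleLocus_iff.1 hcU
  haveI : Algebra.FinitePresentation A (Localization.Away c) :=
    .trans A C₀ (Localization.Away c)
  have hC : Algebra.Etale A (Localization.Away c) := ⟨inferInstance, inferInstance⟩
  obtain ⟨P, rfl⟩ := Ideal.Quotient.mk_surjective c
  let C := Localization.Away (Ideal.Quotient.mk I P)
  let β : B := algebraMap A B g * MvPolynomial.aeval b P
  let B' := Localization.Away β
  have hβ : IsUnit (algebraMap B B' (algebraMap A B g)) ∧ IsUnit (algebraMap B B' (MvPolynomial.aeval b P)) := by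
    have := IsLocalization.map_units B' (⟨β, 1, pow_one β⟩ : Submonoid.powers β)
    rw [map_mul, IsUnit.mul_iff] at this
    exact this
  let ev' : P₀ →ₐ[A] B' := (IsScalarTower.toAlgHom A B B').comp (MvPolynomial.aeval b)
  have hev' : ∀ x ∈ I, ev' x = 0 := by
    have : I ≤ RingHom.ker ev'.toRingHom := Ideal.span_le.2 fun f hf => by
      refine RingHom.mem_ker.2 (hβ.1.mul_right_eq_zero.1 ?_)
      show algebraMap B B' _ * algebraMap B B' (MvPolynomial.aeval b f) = 0
      rw [← map_mul, hrel f hf, map_zero]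
    exact fun x hx => RingHom.mem_ker.1 (this hx)
  let φ₀ : C₀ →ₐ[A] B' := Ideal.Quotient.liftₐ I ev' hev'
  have hφ₀ : ∀ P, φ₀ (Ideal.Quotient.mk I P) = algebraMap B B' (MvPolynomial.aeval b P) :=
    fun P => Ideal.Quotient.lift_mk I ev'.toRingHom hev'
  have hu : ∀ y : Submonoid.powers (Ideal.Quotient.mk I P), IsUnit (φ₀ y) := by
    rintro ⟨_, k, rfl⟩
    rw [map_pow]
    exact IsUnit.pow k ((hφ₀ P).symm ▸ hβ.2)
  let φ : C →ₐ[A] B' := IsLocalization.liftAlgHom (f := φ₀) hu
  have hφ : ∀ x, φ (algebraMap C₀ C x) = φ₀ x := fun x => IsLocalization.lift_eq hu x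
  -- the kernel of the multiplication
  obtain ⟨J, hJ⟩ := Algebra.FinitePresentation.ker_fG_of_surjective (R := B)
    (Algebra.TensorProduct.lift (AlgHom.id B B) (AlgHom.id A B) fun _ _ => Commute.all _ _)
    (fun y => ⟨y ⊗ₜ[A] 1, (Algebra.TensorProduct.lift_tmul _ _ _ y 1).trans (mul_one y)⟩)
  have hkill : ∀ z : B ⊗[A] B, ∃ t, t ∉ p ∧ ∀ (R : Type u) [CommRing R] [Algebra A R] (f₁ f₂ : B →ₐ[A] R),
      IsUnit (algebraMap A R t) → (∀ Q : P₀, f₁ (MvPolynomial.aeval b Q) = f₂ (MvPolynomial.aeval b Q)) →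
      Algebra.TensorProduct.lift f₁ f₂ (fun _ _ => Commute.all _ _) z =
        f₂ (Algebra.TensorProduct.lift (AlgHom.id A B) (AlgHom.id A B) (fun _ _ => Commute.all _ _) z) := by
    intro z
    induction z using TensorProduct.induction_on with
    | zero => exact ⟨1, p.primeCompl.one_mem, by simp⟩
    | tmul x y =>
      obtain ⟨t, ht, R, hR⟩ := hsurj x
      refine ⟨t, ht, fun T _ _ f₁ f₂ hT h => ?_⟩
      have := h R
      rw [hR, map_mul, map_mul, f₁.commutes, f₂.commutes] at this
      rw [Algebra.TensorProduct.lift_tmul, Algebra.TensorProduct.lift_tmul, map_mul, hT.mul_left_cancel this]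
      rfl
    | add x y hx hy =>
      obtain ⟨t, ht, h⟩ := hx
      obtain ⟨t', ht', h'⟩ := hy
      refine ⟨t * t', p.primeCompl.mul_mem ht ht', fun T _ _ f₁ f₂ hT hh => ?_⟩
      rw [map_mul, IsUnit.mul_iff] at hT
      simp only [map_add, h T f₁ f₂ hT.1 hh, h' T f₁ f₂ hT.2 hh]
  choose tz htz htz' using hkill
  let t := ∏ z ∈ J, tz z
  have ht : t ∉ p := fun h => by
    obtain ⟨z, -, hz⟩ := (Ideal.IsPrime.prod_mem_iff (p := p)).1 h
    exact htz z hz
  have hqC : (q₀.map (algebraMap C₀ C)).IsPrime ∧ (q₀.map (algebraMap C₀ C)).comap (algebraMap A C) = p := by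
    have hd : Disjoint (Submonoid.powers (Ideal.Quotient.mk I P) : Set C₀) ↑q₀ := by
      rw [Set.disjoint_left]
      rintro _ ⟨k, rfl⟩ h
      exact hc (‹q₀.IsPrime›.mem_of_pow_mem k h)
    refine ⟨IsLocalization.isPrime_of_isPrime_disjoint _ C q₀ inferInstance hd, ?_⟩
    rw [IsScalarTower.algebraMap_eq A C₀ C, ← Ideal.comap_comap, ← Ideal.under_def (A := C₀),
      IsLocalization.under_map_of_isPrime_disjoint _ C inferInstance hd, hq₀A]
  refine ⟨C, inferInstance, inferInstance, β, φ, t, _, hC, hqC.1, hqC.2, ht, ?_, ?_⟩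
  · intro R _ χ₁ χ₂ hT h
    refine IsLocalization.ringHom_ext (Submonoid.powers β) ?_
    have hA : ∀ a, χ₁ (algebraMap A B' a) = χ₂ (algebraMap A B' a) := fun a => by
      rw [← φ.commutes a]
      exact RingHom.congr_fun h (algebraMap A C a)
    letI : Algebra A R := (χ₁.comp (algebraMap A B')).toAlgebra
    let f₁ : B →ₐ[A] R := { χ₁.comp (algebraMap B B') with
      commutes' := fun a => congrArg χ₁ (IsScalarTower.algebraMap_apply A B B' a).symm }
    let f₂ : B →ₐ[A] R := { χ₂.comp (algebraMap B B') with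
      commutes' := fun a => (congrArg χ₂ (IsScalarTower.algebraMap_apply A B B' a).symm).trans (hA a).symm }
    have hb : ∀ Q : P₀, f₁ (MvPolynomial.aeval b Q) = f₂ (MvPolynomial.aeval b Q) := fun Q => by
      have := RingHom.congr_fun h (algebraMap C₀ C (Ideal.Quotient.mk I Q))
      simp only [RingHom.comp_apply, AlgHom.toRingHom_eq_coe, RingHom.coe_coe, hφ, hφ₀] at this
      exact this
    let F : B ⊗[A] B →ₐ[A] R := Algebra.TensorProduct.lift f₁ f₂ fun _ _ => Commute.all _ _
    have hF : Ideal.span (J : Set (B ⊗[A] B)) ≤ RingHom.ker F.toRingHom := Ideal.span_le.2 fun z hz => by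
      refine RingHom.mem_ker.2 ((htz' z R f₁ f₂ (isUnit_of_dvd_unit (map_dvd _ (Finset.dvd_prod_of_mem _ hz)) hT) hb).trans ?_)
      have : z ∈ Ideal.span (J : Set (B ⊗[A] B)) := Ideal.subset_span hz
      rw [hJ] at this
      exact (congrArg f₂ (RingHom.mem_ker.1 this)).trans (map_zero f₂)
    refine RingHom.ext fun y => ?_
    have hy : y ⊗ₜ[A] (1 : B) - (1 : B) ⊗ₜ[A] y ∈ Ideal.span (J : Set (B ⊗[A] B)) := by
      rw [hJ]
      exact RingHom.mem_ker.2 (by simp)
    have := RingHom.mem_ker.1 (hF hy)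
    simpa [F, sub_eq_zero, f₁, f₂] using this
  · intro K _ χ hχ
    let χ₀ := χ.comp (algebraMap C₀ C)
    have hη : ∀ y : Algebra.algebraMapSubmonoid C₀ p.primeCompl, IsUnit (χ₀ y) := by
      rintro ⟨_, s, hs, rfl⟩
      refine isUnit_iff_ne_zero.2 ?_
      show χ _ ≠ 0
      rw [← IsScalarTower.algebraMap_apply]
      exact hχ s hs
    let η : E →+* K := IsLocalization.lift hη
    have hη' : ∀ x, η (algebraMap C₀ E x) = χ (algebraMap C₀ C x) := fun x => IsLocalization.lift_eq hη x
    have hβK : IsUnit (η.comp (algebraMap B E) β) := by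
      rw [map_mul]
      refine IsUnit.mul ((hunit g hg).map η) ?_
      show IsUnit (η (algebraMap B E _))
      rw [← hψ, hη']
      exact (IsLocalization.map_units C (⟨_, 1, pow_one _⟩ : Submonoid.powers (Ideal.Quotient.mk I P))).map χ
    refine ⟨IsLocalization.Away.lift β hβK, IsLocalization.ringHom_ext (Submonoid.powers (Ideal.Quotient.mk I P))
      (Ideal.Quotient.ringHom_ext (RingHom.ext fun R => ?_))⟩
    show IsLocalization.Away.lift β hβK (φ (algebraMap C₀ C (Ideal.Quotient.mk I R))) = χ (algebraMap C₀ C (Ideal.Quotient.mk I R))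
    rw [hφ, hφ₀, IsLocalization.Away.lift_eq, ← hη', hψ]
    rfl

end Groth.Agent.FlatMono
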