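import Groth.Agent.FlatMono.Nhd
import Groth.Agent.DimZeroSp.Basic
import Groth.Agent.AlgSpD.HasAt
import Groth.Agent.AlgSpCov.Listed
import Groth.Prelude.Def_AlgSpMor5

/-!
# Flat monomorphisms are representable
-/

universe u

open CategoryTheory CategoryTheory.Limits AlgebraicGeometry

set_option autoImplicit false
set_option backward.isDefEq.respectTransparency false
set_option backward.isDefEq.respectTransparency.types false

namespace Groth.Agent.FlatMono

open _root_.AlgSp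

variable {S : Scheme.{u}}

/-- A space with a flat monomorphism to a scheme is a scheme. -/
theorem isRepresentable_of_flat_mono_to_scheme (X : Space S) {V : Over S} (m : X.obj ⟶ (yon S).obj V) [Mono m]
    (hm : LocP @Flat m) : X.obj.obj.IsRepresentable := by
  refine DimZeroSp.isRepresentable_of_forall_nhd X fun x => ?_
  obtain ⟨U, a, u, ha, rfl⟩ := AlgSpD.exists_chart X x
  obtain ⟨h, hh⟩ := (yon S).map_surjective (a ≫ m)
  have : Flat h.left := hm a (𝟙 _) h ha (repWith_id _ V) (by rw [hh, Category.comp_id])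
  obtain ⟨_, ⟨V₁, hV₁, rfl⟩, hv, -⟩ := V.left.isBasis_affineOpens.exists_subset_of_mem_open
    (Set.mem_univ (h.left u)) isOpen_univ
  let V₀ : V.left.affineOpens := ⟨V₁, hV₁⟩
  obtain ⟨_, ⟨U₁, hU₁, rfl⟩, hu, hU₀⟩ := U.left.isBasis_affineOpens.exists_subset_of_mem_open
    (show u ∈ (h.left ⁻¹ᵁ V₀.1 : Set ↥U.left) from hv) (h.left ⁻¹ᵁ V₀.1).isOpen
  let U₀ : U.left.affineOpens := ⟨U₁, hU₁⟩
  -- affine models of the opens
  let A := Γ(V.left, V₀.1)
  let B := Γ(U.left, U₀.1)
  let φ : A ⟶ B := h.left.appLE V₀.1 U₀.1 hU₀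
  letI : Algebra A B := φ.hom.toAlgebra
  have hfl : Flat (Spec.map φ) := by
    rw [HasRingHomProperty.Spec_iff (P := @Flat)]
    exact HasRingHomProperty.appLE (P := @Flat) h.left inferInstance V₀ U₀ hU₀
  have : Module.Flat A B := (HasRingHomProperty.Spec_iff (P := @Flat)).1 hfl
  let sV : Spec (.of A) ⟶ S := V₀.2.fromSpec ≫ V.hom
  let jV : Over.mk sV ⟶ V := Over.homMk V₀.2.fromSpec rfl
  have hcomm : Spec.map φ ≫ V₀.2.fromSpec = U₀.2.fromSpec ≫ h.left :=
    IsAffineOpen.SpecMap_appLE_fromSpec h.left V₀.2 U₀.2 hU₀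
  let jU : ovr sV B ⟶ U := Over.homMk U₀.2.fromSpec (by
    show U₀.2.fromSpec ≫ U.hom = Spec.map φ ≫ V₀.2.fromSpec ≫ V.hom
    rw [reassoc_of% hcomm, Over.w h])
  have hjh : jU ≫ h = str sV B ≫ jV := Over.OverMorphism.ext hcomm.symm
  let a₁ := (yon S).map jU ≫ a
  have ha₁ : RepWith @Etale a₁ := (RepWith @Etale : MorphismProperty (Sp S)).comp_mem _ _
    ((repWith_yon_map_iff _ _).2 (inferInstanceAs (Etale U₀.2.fromSpec))) ha
  obtain ⟨X₁, j₁, hj₁, hj₁r⟩ := AlgSpB.exists_openSubspace X (W := Set.range (Points.ofPt a₁))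
    (by
      have := Groth.Agent.AlgSp.isOpenMap_map_of_repWith (Groth.Agent.AlgSp.repWith_mono
        (fun g hg => (have : Etale g := hg; inferInstance : UniversallyOpen g)) ha₁)
      have e' : Set.range (Points.ofPt a₁) = Set.range (Points.map a₁) := by
        ext y
        constructor
        · rintro ⟨z, rfl⟩
          exact ⟨Points.schemeHomeo _ z, rfl⟩
        · rintro ⟨z, rfl⟩
          obtain ⟨z, rfl⟩ := (Points.schemeHomeo _).surjective z
          exact ⟨z, rfl⟩
      rw [e']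
      exact this.isOpen_range)
  obtain ⟨a', ha', ha'e, ha's⟩ := AlgSpB.exists_chart_into_subspace ha₁ hj₁ hj₁r
  have := AlgSpB.mono_of_isOpenImmersion hj₁
  have hjVo : RepWith @IsOpenImmersion ((yon S).map jV) :=
    (repWith_yon_map_iff _ _).2 (inferInstanceAs (IsOpenImmersion V₀.2.fromSpec))
  have := AlgSpB.mono_of_isOpenImmersion hjVo
  have hrange : Set.range (Points.map (j₁.hom ≫ m)) ⊆ Set.range (Points.map ((yon S).map jV)) := by
    rintro _ ⟨y, rfl⟩
    obtain ⟨z, hz⟩ := hj₁r.le (Set.mem_range_self y)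
    refine ⟨Points.schemeHomeo _ ((str sV B).left z), ?_⟩
    show Points.map _ (Points.ofPt (𝟙 _) _) = _
    rw [Points.map_ofPt, Category.id_comp, Points.map_comp, ← hz, Points.map_ofPt,
      show a₁ ≫ m = (yon S).map (str sV B) ≫ (yon S).map jV by
        rw [← Functor.map_comp, ← hjh, Functor.map_comp, hh, Category.assoc],
      AlgSpB.ofPt_map_comp]
  obtain ⟨m₁, hm₁⟩ := (AlgSpB.exists_factor_isOpenImmersion_iff hjVo _).2 hrange
  have : Mono m₁ := by
    have : Mono (m₁ ≫ (yon S).map jV) := by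
      rw [hm₁]
      exact mono_comp _ _
    exact mono_of_mono m₁ ((yon S).map jV)
  have hstr : a' ≫ m₁ = (yon S).map (str sV B) := by
    rw [← cancel_mono ((yon S).map jV), Category.assoc, hm₁, reassoc_of% ha', ← Functor.map_comp, ← hjh,
      Functor.map_comp, hh, Category.assoc]
  let u₀ : ↥(ovr sV B).left := U₀.2.primeIdealOf ⟨u, hu⟩
  obtain ⟨X₂, j₂, hj₂, hrep, z, hz⟩ := exists_nhd sV (X := X₁) m₁ a' ha'e ha's hstr u₀
  refine ⟨X₂, j₂ ≫ j₁, (RepWith @IsOpenImmersion : MorphismProperty (Sp S)).comp_mem _ _ hj₂ hj₁, hrep, z, ?_⟩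
  rw [show (j₂ ≫ j₁).hom = j₂.hom ≫ j₁.hom from rfl, Points.map_comp, hz, Points.map_ofPt, ha',
    AlgSpB.ofPt_map_comp]
  exact congrArg (Points.ofPt a) (U₀.2.fromSpec_primeIdealOf ⟨u, hu⟩)

end Groth.Agent.FlatMono
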